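import Groth.Agent.Dix.NeronEllPts
import Groth.Agent.VarietyA.GeomIrrS
import Mathlib.CategoryTheory.Monoidal.Cartesian.Over
import Mathlib.CategoryTheory.Monoidal.Cartesian.Grp
import Groth.Prelude.Def_SGA7IX
import Mathlib.AlgebraicGeometry.Morphisms.UniversallyOpen

/-!
# Translates of an open subset by sections, over a strictly henselian base

Let `G` be a smooth group scheme over a strictly henselian local ring `R`, with irreducible special fibre, and `U` an
open of `G` meeting the special fibre.  For every point `x` of the special fibre there is a section `a` of `G` such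
that both `a x` and `a⁻¹ x` lie in `U`.
-/

set_option autoImplicit false
universe u

open CategoryTheory Limits MonoidalCategory CartesianMonoidalCategory AlgebraicGeometry TopologicalSpace
open scoped MonObj

namespace Groth.Agent.Sga7.H260.Cover

section Top

variable {A B : Type*} [TopologicalSpace A] [TopologicalSpace B]

theorem irreducibleSpace_of_isInducing {e : A → B} (he : Topology.IsInducing e)
    (h : IsIrreducible (Set.range e)) : IrreducibleSpace A := by
  have : PreirreducibleSpace A := by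
    refine ⟨fun U V hU hV hU' hV' => ?_⟩
    obtain ⟨U', hU'o, rfl⟩ := he.isOpen_iff.mp hU
    obtain ⟨V', hV'o, rfl⟩ := he.isOpen_iff.mp hV
    obtain ⟨a, -, ha⟩ := hU'
    obtain ⟨b, -, hb⟩ := hV'
    obtain ⟨_, ⟨c, rfl⟩, hc⟩ := h.2 U' V' hU'o hV'o ⟨e a, ⟨a, rfl⟩, ha⟩ ⟨e b, ⟨b, rfl⟩, hb⟩
    exact ⟨c, trivial, hc⟩
  have h1 : Nonempty A := Set.range_nonempty_iff_nonempty.mp h.1
  exact { toNonempty := h1 }

end Top

section Grp

variable {C : Type*} [Category C] [CartesianMonoidalCategory C] {G : C} [GrpObj G]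

/-- Left translation by a section. -/
abbrev tr (a : 𝟙_ C ⟶ G) : G ⟶ G := (toUnit G ≫ a) * 𝟙 G

theorem comp_tr {T : C} (x : T ⟶ G) (a : 𝟙_ C ⟶ G) : x ≫ tr a = (toUnit T ≫ a) * x := by
  rw [tr, MonObj.comp_mul, Category.comp_id, ← Category.assoc, toUnit_unique (x ≫ toUnit G) (toUnit T)]

theorem tr_comp_tr (a b : 𝟙_ C ⟶ G) : tr a ≫ tr b = tr (b * a) := by
  rw [comp_tr, tr, tr, MonObj.comp_mul, mul_assoc]

theorem tr_one : tr (1 : 𝟙_ C ⟶ G) = 𝟙 G := by
  rw [tr, MonObj.comp_one, one_mul]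

/-- Left translation by a section as an isomorphism. -/
@[simps]
def trIso (a : 𝟙_ C ⟶ G) : G ≅ G where
  hom := tr a
  inv := tr a⁻¹
  hom_inv_id := by rw [tr_comp_tr, inv_mul_cancel, tr_one]
  inv_hom_id := by rw [tr_comp_tr, mul_inv_cancel, tr_one]

end Grp

variable {R : Type u} [CommRing R] [IsLocalRing R] (G : Over (Spec (CommRingCat.of R)))

/-- The closed immersion of the closed point. -/
noncomputable abbrev vcl (R : Type u) [CommRing R] [IsLocalRing R] :
    Spec (CommRingCat.of (IsLocalRing.ResidueField R)) ⟶ Spec (CommRingCat.of R) :=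
  Spec.map (CommRingCat.ofHom (IsLocalRing.residue R))

theorem vcl_apply (t : Spec (CommRingCat.of (IsLocalRing.ResidueField R))) :
    vcl R t = IsLocalRing.closedPoint R := by
  have h : t = (⊥ : PrimeSpectrum (IsLocalRing.ResidueField R)) := Subsingleton.elim _ _
  rw [h]
  apply PrimeSpectrum.ext
  change Ideal.comap (IsLocalRing.residue R) ⊥ = IsLocalRing.maximalIdeal R
  rw [← RingHom.ker_eq_comap_bot, IsLocalRing.ker_residue]

/-- A point of the special fibre factors through the closed point of the base. -/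
theorem exists_fac {k' : Type u} [Field k'] (t : Spec (CommRingCat.of k') ⟶ Spec (CommRingCat.of R))
    (ht : ∀ z, t z = IsLocalRing.closedPoint R) :
    ∃ φ : IsLocalRing.ResidueField R →+* k', t = Spec.map (CommRingCat.ofHom φ) ≫ vcl R := by
  obtain ⟨ψ, rfl⟩ := Spec.map_surjective t
  have hloc : IsLocalHom ψ.hom := by
    refine ((IsLocalRing.local_hom_TFAE ψ.hom).out 0 4).mpr ?_
    have := congrArg PrimeSpectrum.asIdeal (ht (IsLocalRing.closedPoint k'))
    exact this
  refine ⟨IsLocalRing.ResidueField.lift ψ.hom, ?_⟩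
  rw [← Spec.map_comp]
  congr 1

theorem range_comp_of_surjective {X Y Z : Scheme.{u}} (e : X ⟶ Y) (f : Y ⟶ Z) (he : Function.Surjective e) :
    Set.range (e ≫ f) = Set.range f := by
  ext z
  constructor
  · rintro ⟨x, rfl⟩
    exact ⟨e x, (Scheme.Hom.comp_apply ..).symm⟩
  · rintro ⟨y, rfl⟩
    obtain ⟨x, rfl⟩ := he y
    exact ⟨x, Scheme.Hom.comp_apply ..⟩

section main

variable {k' : Type u} [Field k'] (φ : IsLocalRing.ResidueField R →+* k')

/-- The base change of `G` to `Spec k'`, as an object over the base. -/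
noncomputable abbrev TT : Over (Spec (CommRingCat.of R)) :=
  Over.mk (Spec.map (CommRingCat.ofHom φ) ≫ vcl R)

/-- The comparison isomorphism. -/
noncomputable def cmp : pullback (pullback.snd G.hom (vcl R)) (Spec.map (CommRingCat.ofHom φ)) ≅
    (G ⊗ TT φ).left :=
  pullbackLeftPullbackSndIso G.hom (vcl R) (Spec.map (CommRingCat.ofHom φ))

theorem cmp_fst : (cmp G φ).hom ≫ (fst G (TT φ)).left =
    pullback.fst (pullback.snd G.hom (vcl R)) (Spec.map (CommRingCat.ofHom φ)) ≫
      pullback.fst G.hom (vcl R) :=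
  pullbackLeftPullbackSndIso_hom_fst _ _ _

theorem range_fst_vcl : Set.range (pullback.fst G.hom (vcl R)) = SGA7.specialFibreSet R G := by
  rw [Scheme.Pullback.range_fst]
  ext y
  constructor
  · rintro ⟨z, hz⟩
    change G.hom y = _
    rw [← hz]
    exact vcl_apply z
  · intro h
    exact ⟨(⊥ : PrimeSpectrum (IsLocalRing.ResidueField R)), (vcl_apply _).trans h.symm⟩

theorem isInducing_fst : Topology.IsInducing (pullback.fst G.hom (vcl R)) := by
  have : IsClosedImmersion (vcl R) := IsClosedImmersion.spec_of_surjective _ (IsLocalRing.residue_surjective)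
  exact (pullback.fst G.hom (vcl R)).isClosedEmbedding.isInducing

theorem irreducible_prod [IsSepClosed (IsLocalRing.ResidueField R)]
    (hirr : IsIrreducible (SGA7.specialFibreSet R G)) : IrreducibleSpace (G ⊗ TT φ).left := by
  have h1 : IrreducibleSpace ↥(pullback G.hom (vcl R)) :=
    irreducibleSpace_of_isInducing (isInducing_fst G) (by rw [range_fst_vcl]; exact hirr)
  let _ := φ.toAlgebra
  have h2 : IrreducibleSpace ↥(pullback (pullback.snd G.hom (vcl R)) (Spec.map (CommRingCat.ofHom φ))) :=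
    Groth.Agent.VarietyA.GeomIrr.irreducibleSpace_pullback_of_isSepClosed (IsLocalRing.ResidueField R)
      (pullback.snd G.hom (vcl R)) k'
  exact (cmp G φ).hom.homeomorph.irreducibleSpace_iff.1 h2

theorem range_fst : Set.range (fst G (TT φ)).left = SGA7.specialFibreSet R G := by
  have h1 : Set.range (fst G (TT φ)).left = Set.range ((cmp G φ).hom ≫ (fst G (TT φ)).left) :=
    (range_comp_of_surjective _ _ (cmp G φ).hom.surjective).symm
  rw [h1, cmp_fst, ← range_fst_vcl]
  have h2 : Surjective (pullback.fst (pullback.snd G.hom (vcl R)) (Spec.map (CommRingCat.ofHom φ))) := by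
    have : Surjective (Spec.map (CommRingCat.ofHom φ)) := by
      refine ⟨fun y => ⟨(⊥ : PrimeSpectrum k'), Subsingleton.elim _ _⟩⟩
    infer_instance
  exact range_comp_of_surjective _ _ h2.surj

/-- The image of an open subset of the product is open in the special fibre. -/
theorem exists_open_image (W : (G ⊗ TT φ).left.Opens) :
    ∃ O : Set G.left, IsOpen O ∧ (fst G (TT φ)).left '' (W : Set (G ⊗ TT φ).left) =
      O ∩ SGA7.specialFibreSet R G := by
  let q := pullback.fst (pullback.snd G.hom (vcl R)) (Spec.map (CommRingCat.ofHom φ))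
  have hq : IsOpenMap q := by
    have : UniversallyOpen (Spec.map (CommRingCat.ofHom φ)) := inferInstance
    exact q.isOpenMap
  have h1 : IsOpen (q '' ((cmp G φ).hom ⁻¹' (W : Set (G ⊗ TT φ).left))) :=
    hq _ (W.2.preimage (cmp G φ).hom.continuous)
  obtain ⟨O, hO, hOe⟩ := (isInducing_fst G).isOpen_iff.mp h1
  refine ⟨O, hO, ?_⟩
  rw [← range_fst_vcl, ← Set.image_preimage_eq_inter_range, hOe]
  ext y
  constructor
  · rintro ⟨w, hw, rfl⟩
    obtain ⟨w', rfl⟩ := (cmp G φ).hom.surjective w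
    refine ⟨q w', ⟨w', hw, rfl⟩, ?_⟩
    rw [← Scheme.Hom.comp_apply, ← cmp_fst, Scheme.Hom.comp_apply]
  · rintro ⟨_, ⟨w', hw', rfl⟩, rfl⟩
    refine ⟨(cmp G φ).hom w', hw', ?_⟩
    rw [← Scheme.Hom.comp_apply, cmp_fst, Scheme.Hom.comp_apply]

end main

theorem isIso_residueFieldMap_of_section {X S : Scheme.{u}} (a : S ⟶ X) (p : X ⟶ S) (h : a ≫ p = 𝟙 S) (s : S) :
    IsIso (a.residueFieldMap s) := by
  have h1 : IsIso (a ≫ p) := by rw [h]; infer_instance
  have h2 : IsIso ((a ≫ p).residueFieldMap s) := inferInstance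
  rw [Scheme.residueFieldMap_comp] at h2
  rw [ConcreteCategory.isIso_iff_bijective]
  refine ⟨(a.residueFieldMap s).hom.injective, ?_⟩
  have h3 := ((ConcreteCategory.isIso_iff_bijective _).mp h2).2
  intro y
  obtain ⟨z, hz⟩ := h3 y
  exact ⟨_, (CommRingCat.comp_apply _ _ z).symm.trans hz⟩

theorem fromSpecResidueField_section {X S : Scheme.{u}} (a : S ⟶ X) (p : X ⟶ S) (h : a ≫ p = 𝟙 S) (x : X)
    (s : S) (hx : x = a s) : X.fromSpecResidueField x = (X.fromSpecResidueField x ≫ p) ≫ a := by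
  subst hx
  have h1 := isIso_residueFieldMap_of_section a p h s
  have h2 : Spec.map (a.residueFieldMap s) ≫ X.fromSpecResidueField (a s) = S.fromSpecResidueField s ≫ a :=
    Scheme.Hom.SpecMap_residueFieldMap_fromSpecResidueField ..
  rw [← cancel_epi (Spec.map (a.residueFieldMap s)), ← Category.assoc, ← Category.assoc, h2]
  simp only [Category.assoc, reassoc_of% h]

theorem fromSpecResidueField_eq {X : Scheme.{u}} (x : X) (z : Spec (X.residueField x)) :
    X.fromSpecResidueField x z = x := by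
  have : X.fromSpecResidueField x z ∈ Set.range (X.fromSpecResidueField x) := ⟨z, rfl⟩
  rw [Scheme.range_fromSpecResidueField] at this
  exact this

/-- For every point `x` of the special fibre there is a section `a` with `a x`, `a⁻¹ x` in the given open. -/
theorem exists_section [GrpObj G] [HenselianLocalRing R] [IsSepClosed (IsLocalRing.ResidueField R)] [Smooth G.hom]
    (hirr : IsIrreducible (SGA7.specialFibreSet R G)) (U : G.left.Opens)
    (hU : ∃ z ∈ U, z ∈ SGA7.specialFibreSet R G) (x : G.left) (hx : x ∈ SGA7.specialFibreSet R G) :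
    ∃ a : 𝟙_ (Over (Spec (CommRingCat.of R))) ⟶ G, (tr a).left x ∈ U ∧ (tr a⁻¹).left x ∈ U := by
  obtain ⟨φ, hφ⟩ := exists_fac (k' := G.left.residueField x) (G.left.fromSpecResidueField x ≫ G.hom) (fun z => by
    rw [Scheme.Hom.comp_apply, fromSpecResidueField_eq]
    exact hx)
  let xbar : TT φ ⟶ G := Over.homMk (G.left.fromSpecResidueField x) hφ
  let p : G ⊗ TT φ ⟶ G := fst G (TT φ)
  let q : G ⊗ TT φ ⟶ TT φ := snd G (TT φ)
  have hP : IrreducibleSpace (G ⊗ TT φ).left := irreducible_prod G φ hirr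
  obtain ⟨z, hzU, hz⟩ := hU
  obtain ⟨w, hw⟩ : ∃ w, p.left w = z := by
    have : z ∈ Set.range p.left := by rw [range_fst]; exact hz
    exact this
  let m₁ : G ⊗ TT φ ⟶ G := p * (q ≫ xbar)
  let m₂ : G ⊗ TT φ ⟶ G := p⁻¹ * (q ≫ xbar)
  have e₁ : lift (p * (q ≫ xbar)⁻¹) q ≫ m₁ = p := by
    rw [MonObj.comp_mul, lift_fst, lift_snd_assoc, inv_mul_cancel_right]
  have e₂ : lift ((q ≫ xbar) * p⁻¹) q ≫ m₂ = p := by
    rw [MonObj.comp_mul, GrpObj.comp_inv, lift_fst, lift_snd_assoc, mul_inv_rev, inv_inv, inv_mul_cancel_right]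
  have n₁ : (m₁.left ⁻¹ᵁ U : Set (G ⊗ TT φ).left).Nonempty := by
    refine ⟨(lift (p * (q ≫ xbar)⁻¹) q).left w, ?_⟩
    change m₁.left _ ∈ U
    rw [← Scheme.Hom.comp_apply, ← Over.comp_left, e₁, hw]
    exact hzU
  have n₂ : (m₂.left ⁻¹ᵁ U : Set (G ⊗ TT φ).left).Nonempty := by
    refine ⟨(lift ((q ≫ xbar) * p⁻¹) q).left w, ?_⟩
    change m₂.left _ ∈ U
    rw [← Scheme.Hom.comp_apply, ← Over.comp_left, e₂, hw]
    exact hzU
  obtain ⟨w₀, hw₀₁, hw₀₂⟩ := nonempty_preirreducible_inter (m₁.left ⁻¹ᵁ U).2 (m₂.left ⁻¹ᵁ U).2 n₁ n₂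
  obtain ⟨O, hO, hOe⟩ := exists_open_image G φ (m₁.left ⁻¹ᵁ U ⊓ m₂.left ⁻¹ᵁ U)
  have hy : p.left w₀ ∈ O ∩ SGA7.specialFibreSet R G := by
    rw [← hOe]
    exact ⟨w₀, ⟨hw₀₁, hw₀₂⟩, rfl⟩
  obtain ⟨a₀, ha₀, ha₀O⟩ := Dix.NeronEllPts.exists_section ⟨inferInstance, inferInstance⟩ G.hom (p.left w₀)
    hy.2 O hO hy.1
  let a : 𝟙_ (Over (Spec (CommRingCat.of R))) ⟶ G := Over.homMk a₀ ha₀
  obtain ⟨w₁, ⟨hw₁₁, hw₁₂⟩, hw₁⟩ : a₀ (IsLocalRing.closedPoint R) ∈
      p.left '' ((m₁.left ⁻¹ᵁ U ⊓ m₂.left ⁻¹ᵁ U : (G ⊗ TT φ).left.Opens) : Set (G ⊗ TT φ).left) := by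
    rw [hOe]
    refine ⟨ha₀O, ?_⟩
    change G.hom (a₀ _) = _
    rw [← Scheme.Hom.comp_apply, ha₀]
    rfl
  let iw := (G ⊗ TT φ).left.fromSpecResidueField w₁
  let WT : Over (Spec (CommRingCat.of R)) := Over.mk (iw ≫ (G ⊗ TT φ).hom)
  let wb : WT ⟶ G ⊗ TT φ := Over.homMk iw rfl
  have k1 : wb ≫ p = toUnit WT ≫ a := by
    ext1
    change iw ≫ p.left = (iw ≫ (G ⊗ TT φ).hom) ≫ a₀
    have h1 := Scheme.Hom.SpecMap_residueFieldMap_fromSpecResidueField p.left w₁
    have h2 := fromSpecResidueField_section a₀ G.hom ha₀ (p.left w₁) (IsLocalRing.closedPoint R) hw₁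
    have h3 : p.left ≫ G.hom = (G ⊗ TT φ).hom := Over.w p
    change (G ⊗ TT φ).left.fromSpecResidueField w₁ ≫ p.left =
      ((G ⊗ TT φ).left.fromSpecResidueField w₁ ≫ (G ⊗ TT φ).hom) ≫ a₀
    rw [← h3, ← Category.assoc, ← h1]
    conv_lhs => rw [h2]
    simp only [Category.assoc]
  have pt : ∀ v : WT ⟶ TT φ, ∀ z : WT.left, xbar.left (v.left z) = x := fun v z =>
    fromSpecResidueField_eq x _
  have pt' : ∀ z : WT.left, wb.left z = w₁ := fun z => fromSpecResidueField_eq w₁ z
  have z₀ : WT.left := IsLocalRing.closedPoint ((G ⊗ TT φ).left.residueField w₁)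
  refine ⟨a, ?_, ?_⟩
  · have h1 : wb ≫ m₁ = (wb ≫ q) ≫ xbar ≫ tr a := by
      rw [comp_tr, MonObj.comp_mul, MonObj.comp_mul, k1]
      simp only [← Category.assoc]
      rw [toUnit_unique ((wb ≫ q) ≫ toUnit (TT φ)) (toUnit WT)]
    have h2 := congr($(h1).left z₀)
    simp only [Over.comp_left, Scheme.Hom.comp_apply] at h2
    rw [pt'] at h2
    have h3 : xbar.left (q.left (wb.left z₀)) = x := pt (wb ≫ q) z₀
    rw [pt'] at h3
    rw [h3] at h2
    rw [← h2]
    exact hw₁₁
  · have h1 : wb ≫ m₂ = (wb ≫ q) ≫ xbar ≫ tr a⁻¹ := by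
      rw [comp_tr, MonObj.comp_mul, MonObj.comp_mul, GrpObj.comp_inv, k1, ← GrpObj.comp_inv]
      simp only [← Category.assoc]
      rw [toUnit_unique ((wb ≫ q) ≫ toUnit (TT φ)) (toUnit WT)]
    have h2 := congr($(h1).left z₀)
    simp only [Over.comp_left, Scheme.Hom.comp_apply] at h2
    rw [pt'] at h2
    have h3 : xbar.left (q.left (wb.left z₀)) = x := pt (wb ≫ q) z₀
    rw [pt'] at h3
    rw [h3] at h2
    rw [← h2]
    exact hw₁₂

end Groth.Agent.Sga7.H260.Cover
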