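import Groth.Agent.Grpsch.Cube

/-!
# The theorem of the square for an abelian variety and a constant endomorphism
-/

set_option autoImplicit false
universe u

open CategoryTheory Limits MonoidalCategory CartesianMonoidalCategory AlgebraicGeometry
open scoped MonObj

namespace Groth.Agent.Sga7.H260.Square

open Groth.Agent.Grpsch.PicGrp Groth.Agent.Grpsch.Cube

variable {K : Type u} [Field K] {A : Over (Spec (CommRingCat.of K))}

theorem pl_const {T : Over (Spec (CommRingCat.of K))} (p : 𝟙_ (Over (Spec (CommRingCat.of K))) ⟶ A)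
    (L : Pic A.left) : pl (toUnit T ≫ p) L = 1 := by
  rw [pl_comp]
  have : pl p L = 1 := pic_spec_local K _
  rw [this, map_one]

/-- Theorem of the square: `τ_a^* L ⊗ τ_{-a}^* L ≅ L ⊗ L`. -/
theorem square [GrpObj A] [IsProper A.hom] [GeometricallyIntegral A.hom] (L : Pic A.left)
    (p : 𝟙_ (Over (Spec (CommRingCat.of K))) ⟶ A) :
    pl ((toUnit A ≫ p) * 𝟙 A) L * pl ((toUnit A ≫ p⁻¹) * 𝟙 A) L = L * L := by
  have h := cube L (toUnit A ≫ p) (toUnit A ≫ p⁻¹) (𝟙 A)
  have h1 : (toUnit A ≫ p) * (toUnit A ≫ p⁻¹) = 1 := by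
    rw [← MonObj.comp_mul, mul_inv_cancel, MonObj.comp_one]
  have h2 : pl (𝟙 A) L = L := by
    unfold pl
    rw [Over.id_left, pull_id]
  rw [h1, one_mul, h2, pl_const, pl_const, pl_one, mul_one, mul_one, one_mul] at h
  exact h.symm

end Groth.Agent.Sga7.H260.Square
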