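import Groth.Agent.Fga.GenIso
import Groth.Agent.Ega2.Ample
import Groth.Agent.Ega4dA.ParaSmooth
import Mathlib.RingTheory.Filtration

/-!
# Division of sections by a function which is prime in the local rings

Let `π` be a global function on `X`, a nonzerodivisor generating a prime ideal in the local rings at the points
outside `D(π)`.

* `exists_smul_of_nv_le`: a section of an invertible module with nonvanishing locus inside `D(π)` is divisible by `π`.
* `exists_div`: a section which is nonzero near a point outside `D(π)` is `π ^ n` times a section whose nonvanishing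
  locus is not contained in `D(π)`.
* `nv_le_of_locPrincipal`, `exists_good_section`.
-/

set_option autoImplicit false
universe u

open CategoryTheory CategoryTheory.Limits AlgebraicGeometry Opposite TopologicalSpace
open Groth.Agent.Fdesc.LocGen Groth.Agent.Fga.GenIso Groth.Agent.Ega2.Nv Groth.Agent.Ega2.Ample

namespace Groth.Agent.Sga7.H260.Div

variable {X : Scheme.{u}} (π : Γ(X, ⊤))

/-- The germ of `π`. -/
noncomputable abbrev gp (y : X) : X.presheaf.stalk y := ge (show y ∈ (⊤ : X.Opens) from trivial) π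

theorem mem_basicOpen_iff_ge {U : X.Opens} {y : X} (hy : y ∈ U) (a : Γ(X, U)) :
    y ∈ X.basicOpen a ↔ IsUnit (ge hy a) := Scheme.mem_basicOpen _ _ _ hy

/-- A function whose nonvanishing locus lies in `D(π)` is divisible by `π` in the stalks where `π` is prime. -/
theorem dvd_ge_of_basicOpen_le {y : X} {W : X.Opens} (hy : y ∈ W) (f : Γ(X, W))
    (hp : (Ideal.span {gp π y}).IsPrime) (hf : X.basicOpen f ≤ X.basicOpen π) :
    gp π y ∣ ge hy f := by
  let q : PrimeSpectrum (X.presheaf.stalk y) := ⟨Ideal.span {gp π y}, hp⟩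
  have h1 : X.fromSpecStalk y q ∉ X.basicOpen π := by
    rw [Ega4dA.ParaSmooth.fromSpecStalk_mem_basicOpen q (show y ∈ (⊤ : X.Opens) from trivial), not_not]
    exact Ideal.mem_span_singleton_self _
  have h2 : X.fromSpecStalk y q ∉ X.basicOpen f := fun h => h1 (hf h)
  rw [Ega4dA.ParaSmooth.fromSpecStalk_mem_basicOpen q hy, not_not] at h2
  exact Ideal.mem_span_singleton.mp h2

/-- If every generization of `y` outside `D(f)` is outside `D(π)`, then `f` divides a power of `π` in the stalk. -/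
theorem exists_mul_eq_pow {y : X} {W N : X.Opens} (hy : y ∈ W) (hyN : y ∈ N) (f : Γ(X, W))
    (hf : N ⊓ X.basicOpen π ≤ X.basicOpen f) :
    ∃ (m : ℕ) (g : X.presheaf.stalk y), ge hy f * g = gp π y ^ m := by
  have h1 : gp π y ∈ (Ideal.span {ge hy f}).radical := by
    rw [Ideal.radical_eq_sInf, Ideal.mem_sInf]
    rintro J ⟨hJ, hJp⟩
    let q : PrimeSpectrum (X.presheaf.stalk y) := ⟨J, hJp⟩
    by_contra hcon
    have h2 : X.fromSpecStalk y q ∈ X.basicOpen π := by
      rw [Ega4dA.ParaSmooth.fromSpecStalk_mem_basicOpen q (show y ∈ (⊤ : X.Opens) from trivial)]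
      exact hcon
    have h3 : X.fromSpecStalk y q ∈ N := by
      have : X.fromSpecStalk y q ⤳ y := by
        have := (Scheme.range_fromSpecStalk (X := X) (x := y)).le ⟨q, rfl⟩
        exact this
      exact this.mem_open N.2 hyN
    have h4 : X.fromSpecStalk y q ∈ X.basicOpen f := hf ⟨h3, h2⟩
    rw [Ega4dA.ParaSmooth.fromSpecStalk_mem_basicOpen q hy] at h4
    exact h4 (hJ (Ideal.mem_span_singleton_self _))
  obtain ⟨m, hm⟩ := h1
  obtain ⟨g, hg⟩ := Ideal.mem_span_singleton.mp hm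
  exact ⟨m, g, hg.symm⟩

variable {π}
variable (hD : ∀ (U : X.Opens) (a b : Γ(X, U)), ores (tr_le π U) a = ores (tr_le π U) b → a = b)

include hD in
theorem smul_cancel {M : X.Modules} (hM : PicF.IsInvertible M) {U : X.Opens} (m m' : Γ(M, U))
    (h : ores (le_top : U ≤ ⊤) π • m = ores (le_top : U ≤ ⊤) π • m') : m = m' := by
  apply res_tr_injective hD hM U
  have h1 := congr(res M (tr_le π U) $h)
  rw [res_smul, res_smul, ores_ores] at h1
  exact (isUnit_res π (tr_le_D π U)).smul_left_cancel.mp h1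

include hD in
/-- Division by `π`. -/
theorem exists_smul_of_nv_le {M : X.Modules} (hM : PicF.IsInvertible M)
    (hp : ∀ y : X, y ∉ X.basicOpen π → (Ideal.span {gp π y}).IsPrime)
    (s : Γ(M, ⊤)) (hs : nv M s ≤ X.basicOpen π) : ∃ s' : Γ(M, ⊤), s = π • s' := by
  have key : ∀ y : X, ∃ (W : X.Opens) (m : Γ(M, W)), y ∈ W ∧
      res M (le_top : W ≤ ⊤) s = ores (le_top : W ≤ ⊤) π • m := by
    intro y
    by_cases hy : y ∈ X.basicOpen π
    · obtain ⟨v, hv⟩ := (isUnit_res π (le_refl (X.basicOpen π))).exists_right_inv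
      refine ⟨X.basicOpen π, v • res M le_top s, hy, ?_⟩
      rw [smul_smul, hv, one_smul]
    · obtain ⟨U, e, hyU, he⟩ := (isInvertible_iff M).mp hM y
      obtain ⟨f, hf⟩ := he.exists_eq (res M (le_top : U ≤ ⊤) s)
      have h1 : X.basicOpen f ≤ X.basicOpen π := by
        rw [← nv_inf_of_eq_smul s le_top he f hf]
        exact inf_le_right.trans hs
      obtain ⟨g, hg⟩ := dvd_ge_of_basicOpen_le π hyU f (hp y hy) h1
      obtain ⟨W₁, hyW₁, v, rfl⟩ := X.presheaf.exists_germ_eq g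
      obtain ⟨W, h2, h3, hyW, h4⟩ := exists_ores_eq_of_ge_eq hyU hyW₁ f
        (ores (le_top : W₁ ≤ ⊤) π * v) (by
          rw [hg, map_mul, ge_ores])
      refine ⟨W, ores h3 v • res M h2 e, hyW, ?_⟩
      have h5 := congr(res M h2 $hf)
      rw [res_res, res_smul, h4, map_mul, ores_ores, mul_smul] at h5
      exact h5
  choose W m hyW hm using key
  obtain ⟨s', hs'⟩ := res_glue M (V := ⊤) W (fun _ => le_top)
    (fun x _ => Opens.mem_iSup.mpr ⟨x, hyW x⟩) m (by
      intro x y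
      apply smul_cancel hD hM
      have h1 := congr(res M (inf_le_left : W x ⊓ W y ≤ W x) $(hm x))
      have h2 := congr(res M (inf_le_right : W x ⊓ W y ≤ W y) $(hm y))
      rw [res_res, res_smul, ores_ores] at h1 h2
      rw [← h1, ← h2])
  refine ⟨s', res_ext M W (fun _ => le_top) (fun x _ => Opens.mem_iSup.mpr ⟨x, hyW x⟩) fun x => ?_⟩
  rw [hm, res_smul, hs']

theorem nv_smul_inf {M : X.Modules} (s : Γ(M, ⊤)) (n : ℕ) :
    nv M (π ^ n • s) ⊓ X.basicOpen π = nv M s ⊓ X.basicOpen π := by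
  refine eq_of_forall_le_iff fun V => ?_
  rw [le_inf_iff, le_inf_iff]
  refine and_congr_left fun hV => ?_
  rw [le_nv_iff M _ le_top, le_nv_iff M _ le_top, res_smul, map_pow]
  have h1 : IsUnit (ores (le_top : V ≤ ⊤) π ^ n) := (isUnit_res π hV).pow n
  constructor
  · intro h
    obtain ⟨v, hv⟩ := h1.exists_left_inv
    have hvu : IsUnit v := IsUnit.of_mul_eq_one _ hv
    have h2 := h.unit_smul hvu
    rwa [smul_smul, hv, one_smul] at h2
  · exact fun h => h.unit_smul h1

include hD in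
/-- A section which is nonzero near some point outside `D(π)` is a power of `π` times a section not vanishing at
some point outside `D(π)`. -/
theorem exists_div [IsLocallyNoetherian X] {M : X.Modules} (hM : PicF.IsInvertible M)
    (hp : ∀ y : X, y ∉ X.basicOpen π → (Ideal.span {gp π y}).IsPrime)
    (s : Γ(M, ⊤)) {y : X} (hy : y ∉ X.basicOpen π)
    (hs : ∀ W : X.Opens, y ∈ W → res M (le_top : W ≤ ⊤) s ≠ 0) :
    ∃ (n : ℕ) (s' : Γ(M, ⊤)), s = π ^ n • s' ∧ ¬ nv M s' ≤ X.basicOpen π := by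
  by_contra hcon
  push Not at hcon
  have h1 : ∀ n : ℕ, ∃ s' : Γ(M, ⊤), s = π ^ n • s' := by
    intro n
    induction n with
    | zero => exact ⟨s, by rw [pow_zero, one_smul]⟩
    | succ n ih =>
      obtain ⟨s', hs'⟩ := ih
      obtain ⟨s'', hs''⟩ := exists_smul_of_nv_le hD hM hp s' (hcon n s' hs')
      exact ⟨s'', by rw [hs', hs'', smul_smul, pow_succ]⟩
  obtain ⟨U, e, hyU, he⟩ := (isInvertible_iff M).mp hM y
  obtain ⟨f, hf⟩ := he.exists_eq (res M (le_top : U ≤ ⊤) s)
  have h2 : ∀ n : ℕ, gp π y ^ n ∣ ge hyU f := by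
    intro n
    obtain ⟨s', hs'⟩ := h1 n
    obtain ⟨g, hg⟩ := he.exists_eq (res M (le_top : U ≤ ⊤) s')
    have h3 : f = ores (le_top : U ≤ ⊤) π ^ n * g := by
      apply he.ext
      rw [← hf, hs', res_smul, hg, smul_smul, map_pow]
    rw [h3, map_mul, map_pow, ge_ores]
    exact Dvd.intro _ rfl
  have h3 : ge hyU f = 0 := by
    have hmax : gp π y ∈ IsLocalRing.maximalIdeal (X.presheaf.stalk y) := by
      rw [IsLocalRing.mem_maximalIdeal]
      intro hu
      exact hy ((mem_basicOpen_iff_ge _ π).mpr hu)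
    have h4 : (⨅ n : ℕ, (IsLocalRing.maximalIdeal (X.presheaf.stalk y)) ^ n) = ⊥ :=
      Ideal.iInf_pow_eq_bot_of_isLocalRing _ (IsLocalRing.maximalIdeal.isMaximal _).ne_top
    rw [← Ideal.mem_bot, ← h4, Ideal.mem_iInf]
    intro n
    obtain ⟨c, hc⟩ := h2 n
    rw [hc]
    exact Ideal.mul_mem_right _ _ (Ideal.pow_mem_pow hmax n)
  obtain ⟨W, h4, h4', hyW, h5⟩ := exists_ores_eq_of_ge_eq hyU hyU f 0 (by rw [h3, map_zero])
  apply hs W hyW
  have h6 := congr(res M h4 $hf)
  rw [res_res, res_smul, h5, map_zero, zero_smul] at h6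
  exact h6

include hD in
/-- A locally principal open containing the part of `N` in `D(π)` and meeting the irreducible complement of
`D(π)` contains `N`. -/
theorem le_of_locPrincipal (hp : ∀ y : X, y ∉ X.basicOpen π → (Ideal.span {gp π y}).IsPrime)
    (hirr : IsPreirreducible ((X.basicOpen π : Set X)ᶜ)) (V N : X.Opens)
    (hV : ∀ y : X, y ∉ V → ∃ (W : X.Opens) (f : Γ(X, W)), y ∈ W ∧ X.basicOpen f = W ⊓ V)
    (hVZ : ∃ z ∈ V, z ∉ X.basicOpen π) (hN : N ⊓ X.basicOpen π ≤ V) : N ≤ V := by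
  intro y hyN
  by_contra hyV
  have hy : y ∉ X.basicOpen π := fun h => hyV (hN ⟨hyN, h⟩)
  obtain ⟨W, f, hyW, hf⟩ := hV y hyV
  obtain ⟨m, g, hg⟩ := exists_mul_eq_pow π hyW (show y ∈ N ⊓ W from ⟨hyN, hyW⟩) f (by
    rw [hf]
    exact fun z hz => ⟨hz.1.2, hN ⟨hz.1.1, hz.2⟩⟩)
  obtain ⟨u, i, hu, hui⟩ := exists_unit_mul_pow (ge_regular hD) (hp y hy) _ _ _ hg
  rcases Nat.eq_zero_or_pos i with rfl | hi
  · rw [pow_zero, mul_one] at hui
    have h1 : y ∈ X.basicOpen f := by
      rw [mem_basicOpen_iff_ge hyW, hui]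
      exact hu
    rw [hf] at h1
    exact hyV h1.2
  · obtain ⟨W₁, hyW₁, v, rfl⟩ := X.presheaf.exists_germ_eq u
    obtain ⟨W₂, h2, h3, hyW₂, h4⟩ := exists_ores_eq_of_ge_eq hyW hyW₁ f
      (v * ores (le_top : W₁ ≤ ⊤) π ^ i) (by
        rw [hui, map_mul, map_pow, ge_ores])
    obtain ⟨z₀, hz₀V, hz₀⟩ := hVZ
    obtain ⟨z, hz, hzW, hzV⟩ := hirr (W₂ : Set X) (V : Set X) W₂.2 V.2 ⟨y, hy, hyW₂⟩ ⟨z₀, hz₀, hz₀V⟩
    apply hz
    have h5 : z ∈ X.basicOpen f := by
      rw [hf]; exact ⟨h2 hzW, hzV⟩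
    have h6 : z ∈ X.basicOpen (ores h2 f) := by
      rw [Groth.Agent.Ega2.ExtCoeff.basicOpen_res]
      exact ⟨hzW, h5⟩
    rw [h4, map_mul, map_pow, ores_ores, Scheme.basicOpen_mul, Scheme.basicOpen_pow _ _ hi,
      Groth.Agent.Ega2.ExtCoeff.basicOpen_res] at h6
    have h7 := h6.2
    rw [Groth.Agent.Ega2.ExtCoeff.basicOpen_res] at h7
    exact h7.2

end Groth.Agent.Sga7.H260.Div
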