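import Groth.Agent.Sga7.H260.Div
import Groth.Agent.Ega2.AmpleTransfer

/-!
# Good sections

Let `π` be a global function on a Noetherian irreducible scheme `X`, prime in the local rings at the points outside
`D(π)`, with irreducible `V(π)`.  If `L` is ample on `D(π)` and `V` is a locally principal open meeting `V(π)`, then
some section of a positive power of `L` over `X` has nonvanishing locus inside `V` and meeting `V(π)`.
-/

set_option autoImplicit false
universe u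

open CategoryTheory CategoryTheory.Limits AlgebraicGeometry Opposite TopologicalSpace
open Groth.Agent.Fdesc.LocGen Groth.Agent.Fga.GenIso Groth.Agent.Ega2.Nv Groth.Agent.Ega2.Ample

namespace Groth.Agent.Sga7.H260.Good

open Groth.Agent.Sga7.H260.Div

variable {X : Scheme.{u}} {π : Γ(X, ⊤)}

/-- Sections of powers of a module ample on `D(π)`, with prescribed small nonvanishing locus inside `D(π)`. -/
theorem exists_nv_le [CompactSpace X] [QuasiSeparatedSpace X] {L : X.Modules} (hL : PicF.IsInvertible L)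
    (hLK : AmpleOn L (X.basicOpen π)) {x : X} (hx : x ∈ X.basicOpen π) {V : X.Opens} (hxV : x ∈ V) :
    ∃ (n : ℕ) (_ : 0 < n) (s : Γ(CohB1.tensorPow L n, ⊤)),
      x ∈ nv _ s ∧ nv _ s ≤ V ∧ nv _ s ≤ X.basicOpen π ∧ IsAffineOpen (nv _ s) := by
  obtain ⟨n, hn, t, hxt, haff⟩ := hLK.exists_nv x hx
  obtain ⟨f, hf, hxf⟩ := haff.exists_basicOpen_le ⟨x, hxV⟩ hxt
  obtain ⟨N₀, hN₀⟩ := exists_nv_eq_basicOpen hLK.locGen hLK.isCompact hLK.isQuasiSeparated t f
  obtain ⟨t', ht'⟩ := hN₀ (N₀ + 1) (Nat.le_succ _)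
  have hloc : LocGen (CohB1.tensorPow L (n * (N₀ + 1))) ⊤ :=
    locGen_tensorPow (locGen_top_iff.2 hL) _
  obtain ⟨S, hS⟩ := exists_nv_eq_nv hloc (isCompact_univ : IsCompact (Set.univ : Set X))
    (isQuasiSeparated_univ : IsQuasiSeparated (Set.univ : Set X))
    π t'
  have h1 : nv _ S = X.basicOpen f := hS.trans ht'
  refine ⟨n * (N₀ + 1), Nat.mul_pos hn (Nat.succ_pos _), S, ?_, ?_, ?_, ?_⟩
  · rwa [h1]
  · rwa [h1]
  · rw [hS]; exact nv_le _ _
  · rw [h1]; exact haff.basicOpen f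

variable (hD : ∀ (U : X.Opens) (a b : Γ(X, U)), ores (tr_le π U) a = ores (tr_le π U) b → a = b)

include hD in
theorem exists_good_section [IsLocallyNoetherian X] [CompactSpace X] [QuasiSeparatedSpace X] [IrreducibleSpace X]
    {L : X.Modules} (hL : PicF.IsInvertible L)
    (hp : ∀ y : X, y ∉ X.basicOpen π → (Ideal.span {gp π y}).IsPrime)
    (hirr : IsPreirreducible ((X.basicOpen π : Set X)ᶜ)) (hne : (X.basicOpen π : Set X).Nonempty)
    (hLK : AmpleOn L (X.basicOpen π)) (V : X.Opens)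
    (hV : ∀ y : X, y ∉ V → ∃ (W : X.Opens) (f : Γ(X, W)), y ∈ W ∧ X.basicOpen f = W ⊓ V)
    (hVZ : ∃ z ∈ V, z ∉ X.basicOpen π) :
    ∃ (n : ℕ) (_ : 0 < n) (s : Γ(CohB1.tensorPow L n, ⊤)), nv _ s ≤ V ∧ ∃ z ∈ nv _ s, z ∉ X.basicOpen π := by
  obtain ⟨z, hzV, hz⟩ := hVZ
  obtain ⟨x, hxV, hx⟩ := nonempty_preirreducible_inter V.2 (X.basicOpen π).2 ⟨z, hzV⟩ hne
  obtain ⟨n, hn, S, hxS, hSV, -, -⟩ := exists_nv_le hL hLK (x := x) hx (V := V) hxV
  have hinv := isInvertible_tensorPow hL n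
  obtain ⟨k, s, hs, hsn⟩ := exists_div hD hinv hp S hz (by
    intro W hzW h0
    obtain ⟨w, hwW, hwS⟩ := nonempty_preirreducible_inter W.2 (nv _ S).2 ⟨z, hzW⟩ ⟨x, hxS⟩
    have h1 : IsGen (res (CohB1.tensorPow L n) (inf_le_left : W ⊓ nv _ S ≤ W)
        (res (CohB1.tensorPow L n) (le_top : W ≤ ⊤) S)) := by
      rw [res_res, ← le_nv_iff _ S le_top]
      exact inf_le_right
    rw [h0, map_zero] at h1
    have h2 : (1 : Γ(X, W ⊓ nv _ S)) = 0 := h1.ext (by rw [smul_zero, smul_zero])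
    have : Nonempty (W ⊓ nv _ S : X.Opens) := ⟨⟨w, hwW, hwS⟩⟩
    have : Nontrivial Γ(X, W ⊓ nv _ S) := inferInstance
    exact one_ne_zero h2)
  have h1 : nv _ s ⊓ X.basicOpen π ≤ V := by
    have h2 := nv_smul_inf (π := π) s k
    rw [← hs] at h2
    rw [← h2]
    exact inf_le_left.trans hSV
  refine ⟨n, hn, s, le_of_locPrincipal hD hp hirr V (nv _ s) hV ⟨z, hzV, hz⟩ h1, ?_⟩
  by_contra hcon
  push Not at hcon
  exact hsn fun w hw => hcon w hw

end Groth.Agent.Sga7.H260.Good
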